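import Groth.Agent.Hensel.Factor
import Groth.Agent.Hensel.Local
import Mathlib

/-! # Krasner: finite extensions of a complete DVR are determined modulo a high power -/

set_option autoImplicit false

universe u

open IsLocalRing Polynomial
open scoped TensorProduct

namespace Groth.Agent.KrasnerDVR

theorem henselianLocalRing_of_complete (A : Type u) [CommRing A] [IsLocalRing A]
    [IsAdicComplete (maximalIdeal A) A] : HenselianLocalRing A := by
  haveI h := IsAdicComplete.henselianRing A (maximalIdeal A)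
  exact { is_henselian := fun f hf a₀ h₁ h₂ => h.is_henselian f hf a₀ h₁ (h₂.map (Ideal.Quotient.mk _)) }

theorem exists_root_of_approx {C : Type u} [CommRing C] [HenselianLocalRing C] (f : C[X]) (c ε : C)
    (hε : ε ∈ maximalIdeal C) (hf : f.eval c = f.derivative.eval c ^ 2 * ε) : ∃ x : C, f.eval x = 0 := by
  set δ := f.derivative.eval c
  obtain ⟨k, hk⟩ := Polynomial.binomExpansion (f.map Polynomial.C) (Polynomial.C c) (Polynomial.C δ * X)
  rw [eval_map, eval_map, derivative_map, eval_map, eval₂_at_apply, eval₂_at_apply, hf] at hk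
  set h : C[X] := Polynomial.C ε + X + k * X ^ 2 with hh
  have hk' : f.eval₂ Polynomial.C (Polynomial.C c + Polynomial.C δ * X) = Polynomial.C δ ^ 2 * h := by
    rw [hk, hh, map_mul, map_pow]; ring
  have hmap : h.map (residue C) = X * (1 + k.map (residue C) * X) := by
    rw [hh, Polynomial.map_add, Polynomial.map_add, Polynomial.map_mul, Polynomial.map_pow, map_C, map_X,
      (residue_eq_zero_iff ε).2 hε, map_zero]
    ring
  obtain ⟨g, q, hgq, hg, hgX, -⟩ := Groth.Agent.Hensel.exists_factor C h X (1 + k.map (residue C) * X) monic_X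
    ⟨-k.map (residue C), 1, by ring⟩ hmap
  have hdeg : g.natDegree = 1 := by
    rw [← hg.natDegree_map (residue C), hgX, natDegree_X]
  have hgform := hg.eq_X_add_C hdeg
  refine ⟨c + δ * (-g.coeff 0), ?_⟩
  have h0 : h.eval (-g.coeff 0) = 0 := by rw [hgq, hgform]; simp
  have := congrArg (eval (-g.coeff 0)) hk'
  rw [eval_mul, h0, mul_zero, ← coe_evalRingHom, hom_eval₂] at this
  rw [show (evalRingHom (-g.coeff 0)).comp Polynomial.C = RingHom.id C from RingHom.ext fun r => eval_C] at this
  simpa [eval₂_id] using this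

section

variable (A : Type u) [CommRing A] [IsDomain A] [IsDiscreteValuationRing A]
  (K : Type u) [Field K] [Algebra A K] [IsFractionRing A K]
  (L : Type u) [Field L] [Algebra K L] [Algebra A L] [IsScalarTower A K L]
  [FiniteDimensional K L] [Algebra.IsSeparable K L]
  (B : Type u) [CommRing B] [Algebra A B] [Algebra B L] [IsScalarTower A B L]
  [IsIntegralClosure B A L]

include A K in
theorem exists_generator : ∃ y : B, IntermediateField.adjoin K {algebraMap B L y} = ⊤ := by
  obtain ⟨θ, hθ⟩ := Field.exists_primitive_element K L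
  obtain ⟨m, hm⟩ := IsIntegral.exists_multiple_integral_of_isLocalization (R := A) (Rₘ := K)
    (nonZeroDivisors A) θ (Algebra.IsIntegral.isIntegral θ)
  obtain ⟨y, hy⟩ := (IsIntegralClosure.isIntegral_iff (A := B)).1 hm
  refine ⟨y, eq_top_iff.2 ?_⟩
  rw [← hθ, IntermediateField.adjoin_le_iff, Set.singleton_subset_iff]
  have hm0 : algebraMap A K (m : A) ≠ 0 :=
    IsFractionRing.to_map_ne_zero_of_mem_nonZeroDivisors m.2
  have hsm : algebraMap B L y = algebraMap A K (m : A) • θ := by
    rw [hy, Submonoid.smul_def, Algebra.smul_def, Algebra.smul_def, ← IsScalarTower.algebraMap_apply A K L]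
  rw [show θ = (algebraMap A K (m : A))⁻¹ • algebraMap B L y by rw [hsm, smul_smul, inv_mul_cancel₀ hm0, one_smul]]
  exact IntermediateField.smul_mem _ (IntermediateField.mem_adjoin_simple_self K _)

end

/-- powers of a uniformizer: every nonzero element of an integral domain extension divides one -/
theorem exists_dvd_pow {A : Type u} [CommRing A] [IsDomain A] [IsDiscreteValuationRing A] {ϖ : A} (hϖ : Irreducible ϖ)
    {B : Type u} [CommRing B] [IsDomain B] [Algebra A B] [Algebra.IsIntegral A B] {z : B} (hz : z ≠ 0) :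
    ∃ s : ℕ, z ∣ algebraMap A B ϖ ^ s := by
  obtain ⟨a, ha, ha0⟩ := Submodule.exists_mem_ne_zero_of_ne_bot
    (Ideal.comap_ne_bot_of_integral_mem hz (Ideal.mem_span_singleton_self z) (Algebra.IsIntegral.isIntegral (R := A) z))
  obtain ⟨n, u, rfl⟩ := IsDiscreteValuationRing.eq_unit_mul_pow_irreducible ha0 hϖ
  refine ⟨n, ?_⟩
  have h := Ideal.mem_span_singleton.1 ha
  rwa [map_mul, map_pow, IsUnit.dvd_mul_left ((Units.isUnit u).map _)] at h

/-- lifting a root modulo a high power of the uniformizer -/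
theorem exists_root_mod {A : Type u} [CommRing A] {B C : Type u} [CommRing B] [CommRing C] [Algebra A B] [Algebra A C]
    [HenselianLocalRing C] (a : A) (ha : algebraMap A C a ∈ maximalIdeal C) (f : A[X]) (y : B) (hy : aeval y f = 0)
    (s m : ℕ) (hm : 2 * s < m) (hs : aeval y f.derivative ∣ algebraMap A B a ^ s)
    (e : (B ⧸ Ideal.span {algebraMap A B (a ^ m)}) ≃ₐ[A] (C ⧸ Ideal.span {algebraMap A C (a ^ m)})) :
    ∃ x : C, aeval x f = 0 := by
  obtain ⟨d, hd⟩ := hs
  obtain ⟨c, hc⟩ := Ideal.Quotient.mk_surjective (e (Ideal.Quotient.mk _ y))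
  obtain ⟨d', hd'⟩ := Ideal.Quotient.mk_surjective (e (Ideal.Quotient.mk _ d))
  have key : ∀ g : A[X], Ideal.Quotient.mk _ (aeval c g) = e (Ideal.Quotient.mk _ (aeval y g)) := fun g => by
    rw [← Ideal.Quotient.mkₐ_eq_mk A, ← Ideal.Quotient.mkₐ_eq_mk A, ← aeval_algHom_apply, ← aeval_algHom_apply,
      Ideal.Quotient.mkₐ_eq_mk, Ideal.Quotient.mkₐ_eq_mk, hc]
    exact (aeval_algHom_apply e.toAlgHom _ g)
  have h1 : aeval c f ∈ Ideal.span {algebraMap A C (a ^ m)} := by
    rw [← Ideal.Quotient.eq_zero_iff_mem, key, hy, map_zero, map_zero]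
  have h2 : aeval c f.derivative * d' - algebraMap A C a ^ s ∈ Ideal.span {algebraMap A C (a ^ m)} := by
    rw [← Ideal.Quotient.eq, map_mul, key, hd', ← map_mul, ← map_mul, ← hd, ← map_pow, ← map_pow,
      Ideal.Quotient.mk_algebraMap, e.commutes, Ideal.Quotient.mk_algebraMap]
  obtain ⟨w, hw⟩ := Ideal.mem_span_singleton.1 h1
  obtain ⟨v, hv⟩ := Ideal.mem_span_singleton.1 h2
  rw [map_pow] at hw hv
  set π := algebraMap A C a
  obtain ⟨r, rfl⟩ : ∃ r, m = 2 * s + (r + 1) := ⟨m - 2 * s - 1, by omega⟩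
  have hu : IsUnit (1 + π ^ (s + (r + 1)) * v) := by
    refine IsLocalRing.isUnit_of_mem_nonunits_one_sub_self _ ?_
    rw [← IsLocalRing.mem_maximalIdeal]
    rw [show 1 - (1 + π ^ (s + (r + 1)) * v) = π * (-(π ^ (s + r) * v)) by ring]
    exact Ideal.mul_mem_right _ _ ha
  obtain ⟨u, hu⟩ := hu
  have hδ : π ^ s = aeval c f.derivative * (d' * ↑u⁻¹) := by
    rw [← mul_assoc, Units.eq_mul_inv_iff_mul_eq, hu]
    linear_combination (-1 : C) * hv
  obtain ⟨x, hx⟩ := exists_root_of_approx (f.map (algebraMap A C)) c ((d' * ↑u⁻¹) ^ 2 * (π * (π ^ r * w)))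
    (Ideal.mul_mem_left _ _ (Ideal.mul_mem_right _ _ ha)) (by
      rw [derivative_map, eval_map_algebraMap, eval_map_algebraMap, hw]
      linear_combination (π * (π ^ r * w) * (π ^ s + aeval c f.derivative * (d' * ↑u⁻¹))) * hδ)
  exact ⟨x, by rwa [eval_map_algebraMap] at hx⟩

/-- the ranks agree -/
theorem finrank_eq {A B C : Type u} [CommRing A] [CommRing B] [CommRing C] [Algebra A B] [Algebra A C]
    [Module.Free A B] [Module.Finite A B] [Module.Free A C] [Module.Finite A C] (a : A)
    (ha : Ideal.span {a} ≠ ⊤)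
    (e : (B ⧸ Ideal.span {algebraMap A B a}) ≃ₐ[A] (C ⧸ Ideal.span {algebraMap A C a})) :
    Module.finrank A B = Module.finrank A C := by
  haveI : Nontrivial (A ⧸ Ideal.span {a}) := Ideal.Quotient.nontrivial_iff.2 ha
  haveI : Nontrivial A := (Ideal.Quotient.mk (Ideal.span {a})).domain_nontrivial
  have hmap : ∀ (D : Type u) [CommRing D] [Algebra A D],
      Nonempty ((A ⧸ Ideal.span {a}) ⊗[A] D ≃ₗ[A] D ⧸ Ideal.span {algebraMap A D a}) := fun D _ _ => by
    refine ⟨((Algebra.TensorProduct.quotIdealMapEquivQuotTensor D (Ideal.span {a})).symm.toLinearEquiv.restrictScalars A).trans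
      ((Ideal.quotientEquivAlgOfEq A ?_).toLinearEquiv)⟩
    rw [Ideal.map_span, Set.image_singleton]
  obtain ⟨eB⟩ := hmap B
  obtain ⟨eC⟩ := hmap C
  have E : (A ⧸ Ideal.span {a}) ⊗[A] B ≃ₗ[A ⧸ Ideal.span {a}] (A ⧸ Ideal.span {a}) ⊗[A] C :=
    LinearEquiv.extendScalarsOfSurjective Ideal.Quotient.mk_surjective (eB.trans (e.toLinearEquiv.trans eC.symm))
  have := E.finrank_eq
  rwa [Module.finrank_baseChange, Module.finrank_baseChange] at this

end Groth.Agent.KrasnerDVR
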