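import Groth.Agent.KrasnerDVR.Basic
import Mathlib

/-! # Krasner bound -/

set_option autoImplicit false

universe u

open IsLocalRing Polynomial

namespace Groth.Agent.KrasnerDVR

variable (A : Type u) [CommRing A] [IsDomain A] [IsDiscreteValuationRing A]
  [IsAdicComplete (IsLocalRing.maximalIdeal A) A] (ϖ : A) (hϖ : Irreducible ϖ)
  (K : Type u) [Field K] [Algebra A K] [IsFractionRing A K]
  (L : Type u) [Field L] [Algebra K L] [Algebra A L] [IsScalarTower A K L]
  [FiniteDimensional K L] [Algebra.IsSeparable K L]
  (B : Type u) [CommRing B] [Algebra A B] [Algebra B L] [IsScalarTower A B L]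
  [IsIntegralClosure B A L]

include hϖ K L in
theorem exists_bound : ∃ m₀ : ℕ, 0 < m₀ ∧ ∀ (C : Type u) [CommRing C] [IsDomain C] [IsDiscreteValuationRing C]
    [Algebra A C] [Module.Finite A C] (m : ℕ), m₀ < m →
    ((B ⧸ Ideal.span {algebraMap A B (ϖ ^ m)}) ≃ₐ[A] (C ⧸ Ideal.span {algebraMap A C (ϖ ^ m)})) →
      Nonempty (B ≃ₐ[A] C) := by
  have hBinj : Function.Injective (algebraMap B L) := IsIntegralClosure.algebraMap_injective B A L
  haveI : IsDomain B := hBinj.isDomain (algebraMap B L)
  haveI : Algebra.IsIntegral A B := IsIntegralClosure.isIntegral_algebra A L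
  haveI : FaithfulSMul A B := (faithfulSMul_iff_algebraMap_injective A B).2 (by
    have : Function.Injective (algebraMap A L) := by
      rw [IsScalarTower.algebraMap_eq A K L]
      exact (algebraMap K L).injective.comp (IsFractionRing.injective A K)
    rw [IsScalarTower.algebraMap_eq A B L] at this
    rw [RingHom.coe_comp] at this
    exact this.of_comp)
  haveI : Module.Finite A B := IsIntegralClosure.finite A K L B
  obtain ⟨y, hy⟩ := exists_generator A K L B
  set f := minpoly A (algebraMap B L y) with hfdef
  have hfy : aeval y f = 0 := hBinj (by rw [map_zero, ← aeval_algebraMap_apply, minpoly.aeval])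
  have hint : IsIntegral A (algebraMap B L y) := (Algebra.IsIntegral.isIntegral (R := A) y).algebraMap
  have hfK : minpoly K (algebraMap B L y) = f.map (algebraMap A K) :=
    minpoly.isIntegrallyClosed_eq_field_fractions' K hint
  have hd : aeval y f.derivative ≠ 0 := by
    intro h
    have hsep : (minpoly K (algebraMap B L y)).Separable :=
      Algebra.IsSeparable.isSeparable K (algebraMap B L y)
    refine hsep.aeval_derivative_ne_zero (x := algebraMap B L y) (minpoly.aeval K (algebraMap B L y) :) ?_
    rw [hfK, derivative_map, aeval_map_algebraMap, aeval_algebraMap_apply, h, map_zero]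
  obtain ⟨s, hs⟩ := exists_dvd_pow hϖ hd
  refine ⟨2 * s + 1, Nat.succ_pos _, fun C _ _ _ _ _ m hm e => ?_⟩
  haveI := henselianLocalRing_of_complete A
  haveI : Algebra.IsIntegral A C := Algebra.IsIntegral.of_finite A C
  haveI : HenselianLocalRing C := Groth.Agent.Hensel.henselianLocalRing_finite A C
  have hpm : ϖ ∈ maximalIdeal A := hϖ.not_isUnit
  have hϖC : algebraMap A C ϖ ≠ 0 := by
    intro h
    have h1 : e (algebraMap A _ ϖ) = 0 := by
      rw [e.commutes, ← Ideal.Quotient.mk_algebraMap, h, map_zero]
    rw [map_eq_zero_iff e e.injective, ← Ideal.Quotient.mk_algebraMap, Ideal.Quotient.eq_zero_iff_mem,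
      Ideal.mem_span_singleton] at h1
    obtain ⟨w, hw⟩ := h1
    obtain ⟨n, rfl⟩ : ∃ n, m = n + 2 := ⟨m - 2, by omega⟩
    have h2 : algebraMap A B ϖ * (1 - algebraMap A B (ϖ ^ (n + 1)) * w) = 0 := by
      rw [map_pow] at hw ⊢
      linear_combination hw
    have h3 := (mul_eq_zero.1 h2).resolve_left ((map_ne_zero_iff _ (FaithfulSMul.algebraMap_injective A B)).2 hϖ.ne_zero)
    have h4 : IsUnit (algebraMap A B (ϖ ^ (n + 1))) := IsUnit.of_mul_eq_one _ (sub_eq_zero.1 h3).symm
    exact hϖ.not_isUnit ((isUnit_pow_iff (Nat.succ_ne_zero n)).1 (isUnit_of_map_unit (algebraMap A B) _ h4))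
  haveI : FaithfulSMul A C := (faithfulSMul_iff_algebraMap_injective A C).2 (by
    rw [injective_iff_map_eq_zero]
    intro a ha
    by_contra ha0
    obtain ⟨n, v, rfl⟩ := IsDiscreteValuationRing.eq_unit_mul_pow_irreducible ha0 hϖ
    rw [map_mul, map_pow, mul_eq_zero] at ha
    rcases ha with h | h
    · exact ((Units.isUnit v).map (algebraMap A C)).ne_zero h
    · exact hϖC (eq_zero_of_pow_eq_zero h))
  obtain ⟨x, hx⟩ := exists_root_mod ϖ (map_nonunit (algebraMap A C) ϖ hpm) f y hfy s m (by omega) hs e
  have hne : Ideal.span {ϖ ^ m} ≠ ⊤ := by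
    rw [Ne, Ideal.span_singleton_eq_top, isUnit_pow_iff (by omega)]
    exact hϖ.not_isUnit
  have hrank := finrank_eq (ϖ ^ m) hne e
  let M := FractionRing C
  have hAM : Function.Injective (algebraMap A M) := by
    rw [IsScalarTower.algebraMap_eq A C M]
    exact (IsFractionRing.injective C M).comp (FaithfulSMul.algebraMap_injective A C)
  letI : Algebra K M := (IsFractionRing.lift hAM).toAlgebra
  haveI : IsScalarTower A K M := .of_algebraMap_eq fun a => (IsFractionRing.lift_algebraMap hAM a).symm
  have hKM : Module.finrank K M = Module.finrank A C := IsFractionRing.finrank_eq A K C M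
  have hpos : 0 < Module.finrank A C := Module.finrank_pos
  haveI : FiniteDimensional K M := Module.finite_of_finrank_pos (hKM ▸ hpos)
  let pb : PowerBasis K L :=
    (IntermediateField.adjoin.powerBasis (Algebra.IsIntegral.isIntegral (R := K) (algebraMap B L y))).map
      ((IntermediateField.equivOfEq hy).trans IntermediateField.topEquiv)
  have hgen : pb.gen = algebraMap B L y := rfl
  let σ : L →ₐ[K] M := pb.lift (algebraMap C M x) (by
    rw [hgen, hfK, aeval_map_algebraMap, aeval_algebraMap_apply, hx, map_zero])
  have hdim : Module.finrank K L = Module.finrank K M := by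
    haveI : IsFractionRing B L := IsIntegralClosure.isFractionRing_of_finite_extension A K L B
    rw [hKM, ← hrank, IsFractionRing.finrank_eq A K B L]
  have hσ : Function.Bijective σ :=
    ⟨σ.injective, (LinearMap.injective_iff_surjective_of_finrank_eq_finrank hdim (f := σ.toLinearMap)).1 σ.injective⟩
  let σe : L ≃ₐ[A] M := (AlgEquiv.ofBijective σ hσ).restrictScalars A
  exact ⟨((IsIntegralClosure.equiv A B L (integralClosure A L)).trans σe.mapIntegralClosure).trans
    (IsIntegralClosure.equiv A (integralClosure A M) M C)⟩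

end Groth.Agent.KrasnerDVR
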